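import Groth.Agent.Lefpen.H705.HypIdeal
import Groth.Agent.Sga5.HcConst
import Groth.Agent.VarietyB.DimTop

/-!
# Geometry of complete intersections in `P^N_k`: support, affine complement

* `mem_support_hypIdeal_iff`: `x ∈ V_+(G)` iff `x ∉ D_+(G)`.
* `coe_support_ciIdeal`, `iUnion_basicOpen`: the complement of `V_+(G_1, …, G_d)` is the union of the
  `D_+(G_j)`, which are affine when the degrees are positive.
* `topologicalKrullDim_le_of_smooth`: a scheme smooth of relative dimension `n` over a field has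
  dimension at most `n`.
-/

set_option autoImplicit false
universe u

open CategoryTheory AlgebraicGeometry Limits TopologicalSpace Opposite

namespace Groth.Agent.Lefpen.H716.CIGeom

open LefPen Groth.Agent.Lefpen.H705.HypIdeal Groth.Agent.Divis.IdealComap Groth.Agent.Fdesc.LocGen

variable {r : ℕ} {k : Type u} [Field k] {d : ℕ}

/-- The distinguished open `D_+(G)` of `P^r_k`. -/
noncomputable abbrev Dplus (G : Form r k d) : (CohB1.ProjSpace r k).Opens :=
  Proj.basicOpen (CohB1.polyGrading r k) G.1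

theorem isAffineOpen_Dplus (G : Form r k d) (hd : 0 < d) : IsAffineOpen (Dplus G) :=
  Proj.isAffineOpen_basicOpen (CohB1.polyGrading r k) G.1 G.2 hd

/-- On the chart `D_+(T_j)` the function `G / T_j^d` is a unit at `x` iff `x ∈ D_+(G)`. -/
theorem mem_basicOpen_dehom_iff (G : Form r k d) (j : Fin (r + 1)) (x : CohB1.ProjSpace r k)
    (hx : x ∈ chart r k j) :
    x ∈ (CohB1.ProjSpace r k).basicOpen (dehom G j) ↔ x ∈ Dplus G := by
  rw [Scheme.mem_basicOpen _ _ _ hx]
  have h1 : IsUnit ((CohB1.ProjSpace r k).presheaf.germ (chart r k j) x hx (dehom G j)) ↔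
      IsUnit ((dehom G j).1 ⟨x, hx⟩) := by
    have h2 := AlgebraicGeometry.Proj.stalkIso'_germ (𝒜 := CohB1.polyGrading r k) (chart r k j) x hx (dehom G j)
    rw [← h2]
    exact (MulEquiv.isUnit_map (AlgebraicGeometry.Proj.stalkIso' (CohB1.polyGrading r k) x)).symm
  have h3 := dehom_val G j ⟨x, hx⟩
  have h4 : IsUnit ((dehom G j).1 ⟨x, hx⟩).val ↔ IsUnit ((dehom G j).1 ⟨x, hx⟩) :=
    HomogeneousLocalization.isUnit_iff_isUnit_val _ _ ((dehom G j).1 ⟨x, hx⟩)
  have h5 : IsUnit (Localization.mk G.1 ⟨MvPolynomial.X j ^ d, pow_mem_primeCompl j ⟨x, hx⟩ d⟩ :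
      Localization (ProjectiveSpectrum.asHomogeneousIdeal x).toIdeal.primeCompl) ↔ x ∈ Dplus G := by
    rw [Localization.mk_eq_mk',
      IsLocalization.AtPrime.isUnit_mk'_iff _ (ProjectiveSpectrum.asHomogeneousIdeal x).toIdeal]
    rfl
  exact h1.trans (h4.symm.trans ((iff_of_eq (congrArg IsUnit h3)).trans h5))

theorem exists_affine_nhd (x : CohB1.ProjSpace r k) : ∃ (j : Fin (r + 1)), x ∈ chart r k j := by
  have : x ∈ (⨆ j : Fin (r + 1), chart r k j : (CohB1.ProjSpace r k).Opens) := by
    rw [iSup_chart]; trivial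
  simpa using Opens.mem_iSup.mp this

/-- The support of the ideal sheaf of `V_+(G)` is the complement of `D_+(G)`. -/
theorem mem_support_hypIdeal_iff (G : Form r k d) (x : CohB1.ProjSpace r k) :
    x ∈ (hypIdeal G).support ↔ x ∉ Dplus G := by
  obtain ⟨j, hj⟩ := exists_affine_nhd x
  rw [Scheme.IdealSheafData.mem_support_iff_of_mem (U := ⟨chart r k j, isAffineOpen_chart j⟩) hj,
    hypIdeal_ideal_of_le G j ⟨chart r k j, isAffineOpen_chart j⟩ le_rfl]
  rw [← mem_basicOpen_dehom_iff G j x hj, Scheme.zeroLocus_span, Scheme.zeroLocus_singleton]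
  have : ores (le_refl (chart r k j)) (dehom G j) = dehom G j := by
    simp [ores]
  rw [this]
  rfl

theorem mem_support_iSup_iff {X : Scheme.{u}} {ι : Type*} (I : ι → X.IdealSheafData) (x : X) :
    x ∈ (⨆ j, I j).support ↔ ∀ j, x ∈ (I j).support := by
  have h : (⨆ j, I j).support = ⨅ j, (I j).support :=
    (Scheme.IdealSheafData.gc (X := X)).l_iSup
  rw [h]
  simp

theorem mem_support_ciIdeal_iff {ι : Type} {a : ι → ℕ} (G : ∀ j, Form r k (a j)) (x : CohB1.ProjSpace r k) :
    x ∈ (ciIdeal G).support ↔ ∀ j, x ∉ Dplus (G j) := by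
  rw [ciIdeal, mem_support_iSup_iff]
  simp_rw [mem_support_hypIdeal_iff]

/-- The complement of the complete intersection is the union of the `D_+(G_j)`. -/
theorem iUnion_Dplus {ι : Type} {a : ι → ℕ} (G : ∀ j, Form r k (a j)) :
    (⋃ j, (Dplus (G j) : Set (CohB1.ProjSpace r k))) =
      (Set.range (fun y : (ciIdeal G).subscheme => (ciIdeal G).subschemeι.base y))ᶜ := by
  have h : Set.range (fun y : (ciIdeal G).subscheme => (ciIdeal G).subschemeι.base y) = (ciIdeal G).support :=
    Scheme.IdealSheafData.range_subschemeι _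
  rw [h]
  ext x
  simp only [Set.mem_iUnion, SetLike.mem_coe, Set.mem_compl_iff]
  rw [mem_support_ciIdeal_iff]
  push Not
  rfl

/-- A scheme smooth of relative dimension `n` over a field has dimension at most `n`. -/
theorem topologicalKrullDim_le_of_smooth (n : ℕ) {X : Scheme.{u}} (f : X ⟶ Spec (CommRingCat.of k))
    [SmoothOfRelativeDimension n f] : topologicalKrullDim X ≤ n := by
  refine Groth.Agent.VarietyB.DimTop.topologicalKrullDim_le_of_forall fun x => ?_
  obtain ⟨_, ⟨U, hU, rfl⟩, hx, -⟩ :=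
    X.isBasis_affineOpens.exists_subset_of_mem_open (Set.mem_univ x) isOpen_univ
  change X.Opens at U
  refine ⟨U, hx, ?_⟩
  have : IsAffine U := hU
  have : SmoothOfRelativeDimension n (U.ι ≫ f) := by
    have : SmoothOfRelativeDimension (0 + n) (U.ι ≫ f) := inferInstance
    rwa [zero_add] at this
  exact Groth.Agent.Sga5.HcConst.topologicalKrullDim_le k n (U.ι ≫ f)

end Groth.Agent.Lefpen.H716.CIGeom
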