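import Groth.Prelude.Def_EtCore
import Groth.Agent.Etcore.ExtAdj

/-!
# `EtCore.Hpull` and the unit, for exact direct images

For `f` with `f_*` exact, `EtCore.Hpull f F n` is the map induced on cohomology by the unit `F ⟶ f_* f^{-1} F`
followed by the isomorphism `H^n(Y, f_* f^{-1} F) ≅ H^n(X, f^{-1} F)`.

* `pushEquiv_Hpull`: the precise formula;
* `Hpull_iff`: injectivity, bijectivity, surjectivity of `Hpull` are those of the map induced by the unit.
-/

set_option autoImplicit false
universe w w' v v' u u'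
open CategoryTheory CategoryTheory.Limits AlgebraicGeometry Opposite CategoryTheory.Abelian

namespace Groth.Agent.Lefpen.H716.HpullUnit

open Groth.Agent.Etcore.ExtAdj

section Abstract

variable {C : Type u} [Category.{v} C] [Abelian C] [HasExt.{w} C] [EnoughInjectives C]
  {D : Type u'} [Category.{v'} D] [Abelian D] [HasExt.{w'} D]
  {L : C ⥤ D} {R : D ⥤ C} [L.Additive] [PreservesFiniteLimits L] [PreservesFiniteColimits L]
  (adj : L ⊣ R) {Z : C} {Z' : D} (c : Z' ≅ L.obj Z)

/-- Precomposition with an isomorphism on Ext groups. -/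
noncomputable def precomp {A A' : D} (e : A ≅ A') (B : D) (n : ℕ) :
    Ext.{w'} A' B n ≃+ Ext.{w'} A B n where
  toFun x := (Ext.mk₀ e.hom).comp x (zero_add n)
  invFun x := (Ext.mk₀ e.inv).comp x (zero_add n)
  left_inv x := by
    beta_reduce
    rw [Ext.mk₀_comp_mk₀_assoc, e.inv_hom_id, Ext.mk₀_id_comp]
  right_inv x := by
    beta_reduce
    rw [Ext.mk₀_comp_mk₀_assoc, e.hom_inv_id, Ext.mk₀_id_comp]
  map_add' x y := Ext.comp_add _ _ _ _

variable [EnoughInjectives D] [R.Additive] [PreservesFiniteLimits R] [PreservesFiniteColimits R]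

/-- `Ext Z' G n ≅ Ext Z (R G) n`. -/
noncomputable def equiv (G : D) (n : ℕ) : Ext.{w'} Z' G n ≃+ Ext.{w} Z (R.obj G) n :=
  (precomp c.symm G n).trans (extAdj adj Z G n)

theorem equiv_cmp (F : C) (n : ℕ) (e : Ext.{w} Z F n) :
    equiv adj c (L.obj F) n ((Ext.mk₀ c.hom).comp (e.mapExactFunctor L) (zero_add n)) =
      e.comp (Ext.mk₀ (adj.unit.app F)) (add_zero n) := by
  change extAdj adj Z (L.obj F) n ((Ext.mk₀ c.inv).comp ((Ext.mk₀ c.hom).comp (e.mapExactFunctor L) (zero_add n))
    (zero_add n)) = e.comp (Ext.mk₀ (adj.unit.app F)) (add_zero n)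
  rw [Ext.mk₀_comp_mk₀_assoc, c.inv_hom_id, Ext.mk₀_id_comp, extAdj_apply]
  exact (unit_nat adj e).symm

theorem iff_of_equiv {A B C : Type*} (E : B ≃ C) (H : A → B) (U : A → C) (h : ∀ e, E (H e) = U e) :
    (Function.Injective H ↔ Function.Injective U) ∧ (Function.Bijective H ↔ Function.Bijective U) ∧
      (Function.Surjective H ↔ Function.Surjective U) := by
  obtain rfl : E ∘ H = U := funext h
  exact ⟨(Function.Injective.of_comp_iff E.injective _).symm, (Function.Bijective.of_comp_iff' E.bijective _).symm,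
    (Function.Surjective.of_comp_iff' E.bijective _).symm⟩

end Abstract

variable {X Y : Scheme.{u}} (f : X ⟶ Y) [PreservesFiniteLimits (EtCoh.pull f)]
  [PreservesFiniteColimits (EtCoh.push f)] (F : EtCoh.Ab Y) (n : ℕ)

/-- The isomorphism `H^n(X, G) ≅ H^n(Y, f_* G)` for `f_*` exact. -/
noncomputable def pushEquiv (G : EtCoh.Ab X) : EtCoh.H X G n ≃+ EtCoh.H Y ((EtCoh.push f).obj G) n :=
  equiv (EtCoh.pullPushAdj f) (EtCore.pullConst f ℤ).symm G n

/-- `Hpull` followed by `H^n(X, f^{-1} F) ≅ H^n(Y, f_* f^{-1} F)` is the map induced by the unit. -/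
theorem pushEquiv_Hpull (e : EtCoh.H Y F n) :
    pushEquiv f n ((EtCoh.pull f).obj F) (EtCore.Hpull f F n e) =
      ((EtCoh.HF Y n).map ((EtCoh.pullPushAdj f).unit.app F)).hom e :=
  equiv_cmp (EtCoh.pullPushAdj f) (EtCore.pullConst f ℤ).symm F n e

theorem Hpull_iff : (Function.Injective (EtCore.Hpull f F n) ↔
      Function.Injective ((EtCoh.HF Y n).map ((EtCoh.pullPushAdj f).unit.app F)).hom) ∧
    (Function.Bijective (EtCore.Hpull f F n) ↔
      Function.Bijective ((EtCoh.HF Y n).map ((EtCoh.pullPushAdj f).unit.app F)).hom) ∧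
    (Function.Surjective (EtCore.Hpull f F n) ↔
      Function.Surjective ((EtCoh.HF Y n).map ((EtCoh.pullPushAdj f).unit.app F)).hom) :=
  iff_of_equiv (pushEquiv f n ((EtCoh.pull f).obj F)).toEquiv _ _ (pushEquiv_Hpull f F n)

end Groth.Agent.Lefpen.H716.HpullUnit
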