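import Groth.Agent.Lefpen.H718.Chart
import Groth.Agent.Divis.IdealComap
import Mathlib.AlgebraicGeometry.IdealSheaf.Functorial

/-!
# Base change of a hypersurface of projective space to an affine scheme over a standard chart

For `θ : k[x_1..x_N] → B` and `ψ = Spec θ ≫ chart_j : Spec B ⟶ P^N`, and `q : B → B'` surjective with kernel
`(θ (G / T_j^a))`: `Spec B' = Spec B ×_{P^N} V_+(G)`.

* `comap_hypIdeal`: `(hypIdeal G).comap ψ = (Spec.map q).ker`
* `exists_isPullback`.
-/

set_option autoImplicit false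
universe u

open CategoryTheory AlgebraicGeometry Limits TopologicalSpace Opposite

namespace Groth.Agent.Lefpen.H716.ChartHyp

open LefPen Groth.Agent.Divis.IdealComap Groth.Agent.Fdesc.LocGen Groth.Agent.Lefpen.H705.HypIdeal
open Groth.Agent.Lefpen.H705.ChartPoly
open Groth.Agent.Sga5

variable {N : ℕ} {k : Type u} [Field k] {a : ℕ}

theorem ker_spec_map_top {B B' : CommRingCat.{u}} (q : B ⟶ B') :
    (Spec.map q).ker.ideal ⟨⊤, isAffineOpen_top _⟩ =
      (RingHom.ker q.hom).map (Scheme.ΓSpecIso B).inv.hom := by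
  rw [Scheme.Hom.ker_apply]
  apply le_antisymm
  · intro x hx
    obtain ⟨b, rfl⟩ := (ConcreteCategory.bijective_of_isIso (Scheme.ΓSpecIso B).inv).2 x
    apply Ideal.mem_map_of_mem
    have h1 := congr($(Scheme.ΓSpecIso_inv_naturality q).hom b)
    rw [RingHom.mem_ker] at hx ⊢
    apply (ConcreteCategory.bijective_of_isIso (Scheme.ΓSpecIso B').inv).1
    refine h1.trans ?_
    refine Eq.trans ?_ (map_zero (Scheme.ΓSpecIso B').inv.hom).symm
    exact hx
  · rw [Ideal.map_le_iff_le_comap]
    intro b hb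
    rw [Ideal.mem_comap, RingHom.mem_ker]
    have h1 := congr($(Scheme.ΓSpecIso_inv_naturality q).hom b)
    refine h1.symm.trans ?_
    rw [RingHom.mem_ker] at hb
    change (Scheme.ΓSpecIso B').inv.hom (q.hom b) = 0
    rw [hb, map_zero]

variable (G : Form N k a) (j : Fin (N + 1)) {B : CommRingCat.{u}} (θ : CommRingCat.of (MvPolynomial (Fin N) k) ⟶ B)

theorem top_le : (⊤ : (Spec B).Opens) ≤ (Spec.map θ ≫ ProjSmooth.chart N k j) ⁻¹ᵁ (chart N k j) := by
  intro x _
  exact top_le_preimage (r := N) (k := k) j (show Spec.map θ x ∈ (⊤ : (Spec _).Opens) from trivial)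

theorem appLE_dehom :
    ((Spec.map θ ≫ ProjSmooth.chart N k j).appLE (chart N k j) ⊤ (top_le j θ)).hom (dehom G j) =
      (Scheme.ΓSpecIso B).inv.hom (θ.hom (ProjChart.dehom N k j G.1)) := by
  have h1 := Scheme.Hom.appLE_comp_appLE (Spec.map θ) (ProjSmooth.chart N k j)
    (chart N k j) ⊤ ⊤ (top_le_preimage j) le_top
  rw [← h1, CommRingCat.hom_comp, RingHom.comp_apply, chart_appLE_dehom]
  exact congr($(Scheme.ΓSpecIso_inv_naturality θ).hom (ProjChart.dehom N k j G.1)).symm

theorem comap_hypIdeal {B' : CommRingCat.{u}} (q : B ⟶ B')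
    (hq : RingHom.ker q.hom = Ideal.span {θ.hom (ProjChart.dehom N k j G.1)}) :
    (hypIdeal G).comap (Spec.map θ ≫ ProjSmooth.chart N k j) = (Spec.map q).ker := by
  apply Scheme.IdealSheafData.ext_of_isAffine
  rw [ker_spec_map_top, hq, ideal_comap (hypIdeal G) _ ⟨chart N k j, isAffineOpen_chart j⟩ ⟨⊤, isAffineOpen_top _⟩
    (top_le j θ), hypIdeal_ideal_of_le G j _ le_rfl, Ideal.map_span, Ideal.map_span]
  simp only [Set.image_singleton]
  have h2 : ores (le_refl (chart N k j)) (dehom G j) = dehom G j := by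
    change ((CohB1.ProjSpace N k).presheaf.map (homOfLE (le_refl (chart N k j))).op).hom (dehom G j) = dehom G j
    rw [show (homOfLE (le_refl (chart N k j))).op = 𝟙 _ from rfl, CategoryTheory.Functor.map_id]
    rfl
  rw [h2, appLE_dehom]

theorem exists_isPullback {B' : CommRingCat.{u}} (q : B ⟶ B') (hsurj : Function.Surjective q.hom)
    (hq : RingHom.ker q.hom = Ideal.span {θ.hom (ProjChart.dehom N k j G.1)}) :
    ∃ t : Spec B' ⟶ (hypIdeal G).subscheme,
      IsPullback (Spec.map q) t (Spec.map θ ≫ ProjSmooth.chart N k j) (hypIdeal G).subschemeι := by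
  have hcl : IsClosedImmersion (Spec.map q) := IsClosedImmersion.spec_of_surjective _ hsurj
  have h1 := comap_hypIdeal G j θ q hq
  have h2 : (hypIdeal G).subschemeι.ker ≤ (Spec.map q ≫ Spec.map θ ≫ ProjSmooth.chart N k j).ker := by
    rw [Scheme.IdealSheafData.ker_subschemeι]
    have h3 : hypIdeal G ≤ (Spec.map q).ker.map (Spec.map θ ≫ ProjSmooth.chart N k j) := by
      rw [Scheme.IdealSheafData.le_map_iff_comap_le, h1]
    rwa [Scheme.IdealSheafData.map_ker] at h3
  refine ⟨IsClosedImmersion.lift (hypIdeal G).subschemeι _ h2, ?_⟩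
  apply AlgebraicGeometry.isPullback_of_isClosedImmersion
  · rw [IsClosedImmersion.lift_fac]
  · rw [Scheme.IdealSheafData.ker_subschemeι, h1]

end Groth.Agent.Lefpen.H716.ChartHyp
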