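import Groth.Agent.Lefpen.H649.JacSmooth
import Groth.Agent.Lefpen.H718.Minor
import Mathlib.RingTheory.Localization.Ideal

/-!
# Partial intersections of hypersurfaces in affine space on which the Jacobian has a flag of invertible minors

For `g_0, …, g_{d-1} ∈ A = k[x_1..x_r]` and `δ ∈ A`:
* `Good g δ`: for each `l ≤ d` some `l × l` minor of the Jacobian matrix of `g_0, …, g_{l-1}` divides `δ`;
* `isStandardSmooth_of_good`: `A_δ/(g_0, …, g_{l-1})` is standard smooth of relative dimension `r - l`;
* `exists_good`: if the gradients of the `g_i` are independent at the prime `q`, there is a good `δ ∉ q`.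
-/

set_option autoImplicit false

universe u

namespace Groth.Agent.Lefpen.H716.GoodMinor

open MvPolynomial Groth.Agent.Lefpen.H649.JacSmooth Groth.Agent.Lefpen.H718.Minor

variable {k : Type u} [Field k] {r d : ℕ} (g : Fin d → MvPolynomial (Fin r) k)

/-- The first `l` equations. -/
abbrev trunc {l : ℕ} (hl : l ≤ d) : Fin l → MvPolynomial (Fin r) k := fun i => g (Fin.castLE hl i)

/-- For each `l ≤ d` some `l × l` minor of the first `l` gradients divides `δ`. -/
def Good (δ : MvPolynomial (Fin r) k) : Prop :=
  ∀ (l : ℕ) (hl : l ≤ d), ∃ σ : Fin l → Fin r, Function.Injective σ ∧ minor (trunc g hl) σ ∣ δ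

theorem isStandardSmooth_aux {k S B ι σ : Type*} [CommRing k] [CommRing S] [Algebra k S] [CommRing B] [Finite σ]
    [Finite ι] (P : Algebra.PreSubmersivePresentation k S ι σ) (ψ : S →+* B) (δ : S)
    (hloc : letI := ψ.toAlgebra; IsLocalization.Away δ B)
    (hunit : IsUnit (ψ P.jacobian)) (n : ℕ) (hn : P.dimension = n) :
    (ψ.comp (algebraMap k S)).IsStandardSmoothOfRelativeDimension n := by
  let _ : Algebra S B := ψ.toAlgebra
  let _ : Algebra k B := (ψ.comp (algebraMap k S)).toAlgebra
  have _ : IsScalarTower k S B := IsScalarTower.of_algebraMap_eq' rfl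
  have _ : IsLocalization.Away δ B := hloc
  have hsm := isStandardSmoothOfRelativeDimension_of_isLocalizationAway (T := B) P δ hunit n hn
  exact (RingHom.isStandardSmoothOfRelativeDimension_algebraMap n).2 hsm

theorem isStandardSmooth_of_minor {l n : ℕ} (hr : r = n + l) (h : Fin l → MvPolynomial (Fin r) k)
    (σ : Fin l → Fin r) (hσ : Function.Injective σ) (δ : MvPolynomial (Fin r) k) (hδ : minor h σ ∣ δ)
    {R B : Type u} [CommRing R] [Algebra (MvPolynomial (Fin r) k) R] [IsLocalization.Away δ R] [CommRing B]
    (π : R →+* B) (hπ : Function.Surjective π)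
    (hker : RingHom.ker π = Ideal.span (Set.range fun i => algebraMap (MvPolynomial (Fin r) k) R (h i))) :
    ((π.comp (algebraMap (MvPolynomial (Fin r) k) R)).comp C).IsStandardSmoothOfRelativeDimension n := by
  have h1 : Ideal.span (Set.range h) ≤ RingHom.ker (π.comp (algebraMap (MvPolynomial (Fin r) k) R)) := by
    rw [Ideal.span_le]
    rintro _ ⟨i, rfl⟩
    change π (algebraMap _ _ (h i)) = 0
    have : algebraMap (MvPolynomial (Fin r) k) R (h i) ∈ RingHom.ker π := by
      rw [hker]
      exact Ideal.subset_span ⟨i, rfl⟩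
    exact this
  let ψ : MvPolynomial (Fin r) k ⧸ Ideal.span (Set.range h) →+* B :=
    Ideal.Quotient.lift _ (π.comp (algebraMap (MvPolynomial (Fin r) k) R)) h1
  have hloc' : letI := ψ.toAlgebra; IsLocalization.Away (Ideal.Quotient.mk (Ideal.span (Set.range h)) δ) B := by
    let _ := ψ.toAlgebra
    have hloc : IsLocalization ((Submonoid.powers δ).map (Ideal.Quotient.mk (Ideal.span (Set.range h)))) B :=
      IsLocalization.of_surjective (S := R) (Submonoid.powers δ) (Ideal.Quotient.mk (Ideal.span (Set.range h)))
        Ideal.Quotient.mk_surjective π hπ rfl (by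
          rw [hker, Ideal.mk_ker, Ideal.map_span, ← Set.range_comp]
          rfl)
    have h2 : (Submonoid.powers δ).map (Ideal.Quotient.mk (Ideal.span (Set.range h))) =
        Submonoid.powers (Ideal.Quotient.mk (Ideal.span (Set.range h)) δ) := Submonoid.map_powers _ δ
    rw [h2] at hloc
    exact hloc
  let P : Algebra.PreSubmersivePresentation k (MvPolynomial (Fin r) k ⧸ Ideal.span (Set.range h)) (Fin r) (Fin l) :=
    Algebra.PreSubmersivePresentation.naive σ hσ
  have hP : P.jacobian = Ideal.Quotient.mk _ (minor h σ) := by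
    rw [Algebra.PreSubmersivePresentation.jacobian_eq_jacobiMatrix_det]
    have h1 : P.jacobiMatrix = (Matrix.of fun (i l : Fin l) => pderiv (σ l) (h i)).transpose := by
      ext1 i j
      rw [Algebra.PreSubmersivePresentation.jacobiMatrix_naive]
      rfl
    rw [h1, Matrix.det_transpose]
    rfl
  have hunit : IsUnit (ψ P.jacobian) := by
    rw [hP]
    have h3 : IsUnit (ψ (Ideal.Quotient.mk _ δ)) :=
      (IsLocalization.Away.algebraMap_isUnit (S := R) δ).map π
    obtain ⟨c, hc⟩ := hδ
    rw [hc, map_mul, map_mul] at h3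
    exact isUnit_of_mul_isUnit_left h3
  exact isStandardSmooth_aux P ψ (Ideal.Quotient.mk (Ideal.span (Set.range h)) δ) hloc' hunit n (by
      rw [Algebra.Presentation.dimension]
      simp [hr])

theorem isStandardSmooth_of_good {l n : ℕ} (hl : l ≤ d) (hr : r = n + l)
    (δ : MvPolynomial (Fin r) k) (hδ : Good g δ)
    {R B : Type u} [CommRing R] [Algebra (MvPolynomial (Fin r) k) R] [IsLocalization.Away δ R] [CommRing B]
    (π : R →+* B) (hπ : Function.Surjective π)
    (hker : RingHom.ker π = Ideal.span (Set.range fun i => algebraMap (MvPolynomial (Fin r) k) R (trunc g hl i))) :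
    ((π.comp (algebraMap (MvPolynomial (Fin r) k) R)).comp C).IsStandardSmoothOfRelativeDimension n := by
  obtain ⟨σ, hσ, hδ'⟩ := hδ l hl
  exact isStandardSmooth_of_minor hr (trunc g hl) σ hσ δ hδ' π hπ hker

/-- At a point where the gradients are independent there is a nonvanishing good `δ`. -/
theorem exists_good {F : Type u} [Field F] (v : MvPolynomial (Fin r) k →+* F)
    (h : LinearIndependent F (Matrix.of fun (i : Fin d) (l : Fin r) => v (pderiv l (g i))).row) :
    ∃ δ, Good g δ ∧ v δ ≠ 0 := by
  classical
  have key : ∀ (l : ℕ) (hl : l ≤ d), ∃ σ : Fin l → Fin r, Function.Injective σ ∧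
      v (minor (trunc g hl) σ) ≠ 0 := by
    intro l hl
    let M : Matrix (Fin l) (Fin r) F := Matrix.of fun i m => v (pderiv m (g (Fin.castLE hl i)))
    have hM : LinearIndependent F M.row := h.comp _ (Fin.castLE_injective hl)
    obtain ⟨σ, hσ⟩ := exists_minor M hM
    refine ⟨σ, ?_, ?_⟩
    · by_contra hinj
      apply hσ
      rw [Function.Injective] at hinj
      push Not at hinj
      obtain ⟨a, b, hab, hne⟩ := hinj
      refine Matrix.det_zero_of_column_eq hne fun i => ?_
      simp [hab]
    · have h1 : v (minor (trunc g hl) σ) = (M.submatrix id σ).det := by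
        rw [minor, RingHom.map_det]
        rfl
      rw [h1]
      exact hσ
  choose σ hσ hσ' using key
  let f : ℕ → MvPolynomial (Fin r) k := fun l => if hl : l ≤ d then minor (trunc g hl) (σ l hl) else 1
  have hf : ∀ (l : ℕ) (hl : l ≤ d), f l = minor (trunc g hl) (σ l hl) := fun l hl => dif_pos hl
  refine ⟨∏ l ∈ Finset.range (d + 1), f l, fun l hl => ⟨σ l hl, hσ l hl, ?_⟩, ?_⟩
  · rw [← hf l hl]
    exact Finset.dvd_prod_of_mem f (Finset.mem_range.2 (Nat.lt_succ_iff.2 hl))
  · rw [map_prod]
    refine Finset.prod_ne_zero_iff.2 fun l hl => ?_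
    rw [hf l (Nat.lt_succ_iff.1 (Finset.mem_range.1 hl))]
    exact hσ' l _

/-- A right inverse modulo the kernel gives the independence of the gradients. -/
theorem linearIndependent_of_rightInverse {F : Type u} [Field F] {C' : Type*} [CommRing C'] (v : C' →+* F)
    (M : Matrix (Fin d) (Fin r) C') (B : Fin r → Fin d → C')
    (h : ∀ m m' : Fin d, v ((∑ l, M m l * B l m') - (if m = m' then 1 else 0)) = 0) :
    LinearIndependent F (M.map v).row := by
  rw [Fintype.linearIndependent_iff]
  intro c hc m'
  have h1 : ∀ l, ∑ m, c m * v (M m l) = 0 := by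
    intro l
    have := congrFun hc l
    simpa using this
  have h2 : ∀ m, ∑ l, v (M m l) * v (B l m') = if m = m' then 1 else 0 := by
    intro m
    have := h m m'
    rw [map_sub, map_sum, sub_eq_zero] at this
    simp only [map_mul] at this
    rw [this]
    split_ifs <;> simp
  have h3 : ∑ m, c m * (∑ l, v (M m l) * v (B l m')) = 0 := by
    simp_rw [Finset.mul_sum]
    rw [Finset.sum_comm]
    refine Finset.sum_eq_zero fun l _ => ?_
    have : ∀ m, c m * (v (M m l) * v (B l m')) = (c m * v (M m l)) * v (B l m') := fun m => by ring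
    simp_rw [this]
    rw [← Finset.sum_mul, h1, zero_mul]
  simp_rw [h2] at h3
  simpa using h3

end Groth.Agent.Lefpen.H716.GoodMinor
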