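import Groth.Agent.Lefpen.H716.TowGeo

/-!
# Smoothness of hypersurfaces from the charts; hyperplanes are smooth

* `smooth_hyp_of_charts`: `V_+(F) ⊆ P^N` is smooth of relative dimension `n` over `k` if the rings
  `k[x_1..x_N]/(F(1, x))` of all standard charts are.
* `smooth_hyperplane`: the coordinate hyperplane `V_+(T_c) ⊆ P^{n+1}` is smooth of relative dimension `n`.
-/

set_option autoImplicit false
universe u

open CategoryTheory AlgebraicGeometry Limits TopologicalSpace Opposite MvPolynomial

namespace Groth.Agent.Lefpen.H716.HypLin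

open LefPen Groth.Agent.Lefpen.H716.GoodMinor Groth.Agent.Lefpen.H716.ChartHyp
open Groth.Agent.Lefpen.H716.TowGeo Groth.Agent.Lefpen.H649.JacSmooth
open Groth.Agent.Sga5

theorem smooth_hyp_of_charts {N : ℕ} {k : Type u} [Field k] {a : ℕ} (F : Form N k a) (n : ℕ)
    (h : ∀ j : Fin (N + 1), SmoothOfRelativeDimension n (Spec.map (CommRingCat.ofHom
      ((Ideal.Quotient.mk (Ideal.span {ProjChart.dehom N k j F.1})).comp (C : k →+* MvPolynomial (Fin N) k))))) :
    SmoothOfRelativeDimension n ((hypIdeal F).subschemeι ≫ CohB1.ProjSpace.toSpec N k) := by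
  let q : ∀ j : Fin (N + 1), CommRingCat.of (MvPolynomial (Fin N) k) ⟶
      CommRingCat.of (MvPolynomial (Fin N) k ⧸ Ideal.span {ProjChart.dehom N k j F.1}) := fun j =>
    CommRingCat.ofHom (Ideal.Quotient.mk (Ideal.span {ProjChart.dehom N k j F.1}))
  have H : ∀ j, ∃ t : Spec (CommRingCat.of (MvPolynomial (Fin N) k ⧸ Ideal.span {ProjChart.dehom N k j F.1})) ⟶
      (hypIdeal F).subscheme,
      IsPullback (Spec.map (q j)) t (Spec.map (𝟙 (CommRingCat.of (MvPolynomial (Fin N) k))) ≫
        ProjSmooth.chart N k j) (hypIdeal F).subschemeι := fun j =>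
    exists_isPullback F j (𝟙 (CommRingCat.of (MvPolynomial (Fin N) k))) (q j) Ideal.Quotient.mk_surjective
      Ideal.mk_ker
  choose t ht using H
  have ht' : ∀ j, IsPullback (t j) (Spec.map (q j)) (hypIdeal F).subschemeι (ProjSmooth.chart N k j) := fun j => by
    have h1 := (ht j).flip
    rwa [Spec.map_id, Category.id_comp] at h1
  have hs : ∀ j, IsOpenImmersion (t j) := fun j =>
    MorphismProperty.of_isPullback (P := @IsOpenImmersion) (ht' j).flip (ProjSmooth.isOpenImmersion_chart N k j)
  let 𝒰 : (hypIdeal F).subscheme.OpenCover :=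
    Scheme.Cover.mkOfCovers (Fin (N + 1)) (fun j => Spec (CommRingCat.of
        (MvPolynomial (Fin N) k ⧸ Ideal.span {ProjChart.dehom N k j F.1}))) (fun j => t j) (fun x => by
        obtain ⟨j, hj⟩ := ProjSmooth.exists_mem_chart N k ((hypIdeal F).subschemeι x)
        obtain ⟨y, hy⟩ := mem_range_of_isPullback (ht' j) x hj
        exact ⟨j, y, hy⟩) (fun j => hs j)
  rw [IsZariskiLocalAtSource.iff_of_openCover (P := @SmoothOfRelativeDimension n) 𝒰]
  intro j
  have e1 : t j ≫ (hypIdeal F).subschemeι ≫ CohB1.ProjSpace.toSpec N k =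
      Spec.map (CommRingCat.ofHom
      ((Ideal.Quotient.mk (Ideal.span {ProjChart.dehom N k j F.1})).comp (C : k →+* MvPolynomial (Fin N) k))) := by
    rw [(ht' j).w_assoc, ProjSmooth.chart_toSpec, ← Spec.map_comp]
    rfl
  have h1 : SmoothOfRelativeDimension n (t j ≫ (hypIdeal F).subschemeι ≫ CohB1.ProjSpace.toSpec N k) := by
    rw [e1]
    exact h j
  exact h1

theorem smooth_of_isEmpty {X Y : Scheme.{u}} (f : X ⟶ Y) [IsEmpty X] (n : ℕ) : SmoothOfRelativeDimension n f where
  exists_isStandardSmoothOfRelativeDimension x := isEmptyElim x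

theorem smooth_hyperplane (n : ℕ) (k : Type u) [Field k] (c : Fin (n + 1 + 1))
    (h : (MvPolynomial.X c : MvPolynomial (Fin (n + 1 + 1)) k) ∈ CohB1.polyGrading (n + 1) k 1) :
    SmoothOfRelativeDimension n
      ((hypIdeal (⟨MvPolynomial.X c, h⟩ : Form (n + 1) k 1)).subschemeι ≫ CohB1.ProjSpace.toSpec (n + 1) k) := by
  refine smooth_hyp_of_charts _ n fun j => ?_
  obtain rfl | ⟨l, rfl⟩ := Fin.eq_self_or_eq_succAbove j c
  · have h1 : Subsingleton (MvPolynomial (Fin (n + 1)) k ⧸
        Ideal.span {ProjChart.dehom (n + 1) k c (MvPolynomial.X c)}) := by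
      rw [Ideal.Quotient.subsingleton_iff, ProjChart.dehom_X_self, Ideal.span_singleton_one]
    have h2 : IsEmpty (Spec (CommRingCat.of (MvPolynomial (Fin (n + 1)) k ⧸
        Ideal.span {ProjChart.dehom (n + 1) k c (MvPolynomial.X c)}))) := by
      change IsEmpty (PrimeSpectrum (MvPolynomial (Fin (n + 1)) k ⧸
        Ideal.span {ProjChart.dehom (n + 1) k c (MvPolynomial.X c)}))
      infer_instance
    exact smooth_of_isEmpty _ n
  · rw [HasRingHomProperty.Spec_iff (P := @SmoothOfRelativeDimension n)]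
    refine RingHom.locally_of RingHom.isStandardSmoothOfRelativeDimension_respectsIso _ ?_
    have hloc : IsLocalization.Away (1 : MvPolynomial (Fin (n + 1)) k) (MvPolynomial (Fin (n + 1)) k) :=
      IsLocalization.away_of_isUnit_of_bijective _ isUnit_one Function.bijective_id
    refine isStandardSmooth_of_minor (R := MvPolynomial (Fin (n + 1)) k) (l := 1) (n := n) rfl
      (fun _ => MvPolynomial.X l) (fun _ => l) (fun a b _ => Subsingleton.elim a b) 1 ?_
      (Ideal.Quotient.mk (Ideal.span {ProjChart.dehom (n + 1) k j (MvPolynomial.X (j.succAbove l))}))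
      Ideal.Quotient.mk_surjective ?_
    · rw [minor, Matrix.det_fin_one]
      simp
    · rw [Ideal.mk_ker, ProjChart.dehom_X]
      congr 1
      ext x
      simp

end Groth.Agent.Lefpen.H716.HypLin
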