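import Groth.Agent.Sga4h.RegDiv
import Groth.Agent.Sga4B.RegLocal
import Groth.Agent.Sga5.SmoothField

/-!
# Smooth divisors in smooth schemes over a perfect field are regular divisors

* `exists_toSec`: affine neighbourhoods that are standard smooth of relative dimension `n` over the field.
* `isRegDiv_of_smooth`: `i : D ⟶ X` a closed immersion, `X` smooth of relative dimension `e + 1`, `D` smooth of
  relative dimension `e` over a perfect field: `i` is a regular divisor.
-/

set_option autoImplicit false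
universe u
open CategoryTheory CategoryTheory.Limits AlgebraicGeometry Opposite

namespace Groth.Agent.Lefpen.H716.RegDivSmooth

open Groth.Agent.Sga4B.RegLocal Groth.Agent.Sga4h.RegDiv

variable {K : Type u} [Field K]

theorem eq_top_of_nonempty (U : (Spec (CommRingCat.of K)).Opens) (x : Spec (CommRingCat.of K)) (hx : x ∈ U) :
    U = ⊤ := by
  have : Subsingleton (PrimeSpectrum K) := inferInstance
  ext y
  have h : (y : PrimeSpectrum K) = x := Subsingleton.elim _ _
  constructor
  · intro _; trivial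
  · intro _
    change y ∈ U
    rw [show y = x from h]
    exact hx

theorem exists_toSec {Z : Scheme.{u}} (g : Z ⟶ Spec (CommRingCat.of K)) (n : ℕ)
    [h : SmoothOfRelativeDimension n g] (z : Z) :
    ∃ (V : Z.Opens) (_ : IsAffineOpen V) (_ : z ∈ V), (toSec g V).IsStandardSmoothOfRelativeDimension n := by
  obtain ⟨U, hU, V, hV, hz, e, hn⟩ := h.exists_isStandardSmoothOfRelativeDimension z
  obtain rfl := eq_top_of_nonempty U (g z) (e hz)
  refine ⟨V, hV, hz, ?_⟩
  have h1 := hn.comp (RingHom.IsStandardSmoothOfRelativeDimension.equiv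
    (Scheme.ΓSpecIso (CommRingCat.of K)).symm.commRingCatIsoToRingEquiv)
  rw [add_zero] at h1
  exact h1

theorem isRegDiv_of_smooth [PerfectField K] {X D : Scheme.{u}} (f : X ⟶ Spec (CommRingCat.of K)) (i : D ⟶ X)
    [IsClosedImmersion i] (e : ℕ) [SmoothOfRelativeDimension (e + 1) f] [SmoothOfRelativeDimension e (i ≫ f)] :
    IsRegDiv i := by
  have hf : Smooth f := SmoothOfRelativeDimension.smooth (e + 1) f
  have hg : Smooth (i ≫ f) := SmoothOfRelativeDimension.smooth e (i ≫ f)
  have hN : IsLocallyNoetherian X := Groth.Agent.Sga5.SmoothField.isLocallyNoetherian f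
  have hX := Groth.Agent.Sga5.SmoothField.isRegularLocalRing_stalk f
  have hD := Groth.Agent.Sga5.SmoothField.isRegularLocalRing_stalk (i ≫ f)
  refine ⟨hN, inferInstance, fun y => hX _, fun y => hD _, fun y => ?_⟩
  obtain ⟨V1, hV1, hy1, h1⟩ := exists_toSec f (e + 1) (i y)
  obtain ⟨V2, hV2, hy2, h2⟩ := exists_toSec (i ≫ f) e y
  let := ((D.residue y).hom.comp (toStalk (i ≫ f) y)).toAlgebra
  have hfs : Algebra.FormallySmooth K (D.residueField y) := formallySmooth_residueField (i ≫ f) y
  have e1 := relDim_eq (i ≫ f) y (hD y) V2 hV2 hy2 e h2 (D.residueField y) (D.residue y).hom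
    (D.residue_surjective y) rfl
  have e2 := relDim_eq f (i y) (hX _) V1 hV1 hy1 (e + 1) h1 (D.residueField y)
    ((D.residue y).hom.comp (i.stalkMap y).hom)
    ((D.residue_surjective y).comp (i.stalkMap_surjective y))
    (by rw [RingHom.comp_assoc, toStalk_stalkMap]; rfl)
  have hXr := hX (i y)
  have hDr := hD y
  obtain ⟨a, ha⟩ := Groth.Agent.CalgA.RegBasic.ringKrullDim_eq_natCast (X.presheaf.stalk (i y))
  obtain ⟨b, hb⟩ := Groth.Agent.CalgA.RegBasic.ringKrullDim_eq_natCast (D.presheaf.stalk y)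
  rw [hb] at e1 ⊢
  rw [ha] at e2 ⊢
  generalize Module.length (D.residueField y) Ω[D.residueField y⁄K] = c at e1 e2
  have e1' : ((e : ℕ∞) : WithBot ℕ∞) = ((b + c : ℕ∞) : WithBot ℕ∞) := by exact_mod_cast e1
  have e2' : (((e + 1 : ℕ) : ℕ∞) : WithBot ℕ∞) = ((a + c : ℕ∞) : WithBot ℕ∞) := by exact_mod_cast e2
  have e3 : (e : ℕ∞) = b + c := by exact_mod_cast e1'
  have e4 : ((e + 1 : ℕ) : ℕ∞) = a + c := by exact_mod_cast e2'
  have hc : c ≠ ⊤ := by
    rintro rfl
    simp at e3
  obtain ⟨c', rfl⟩ := ENat.ne_top_iff_exists.1 hc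
  have e5 : e = b + c' := by exact_mod_cast e3
  have e6 : e + 1 = a + c' := by exact_mod_cast e4
  have : a = b + 1 := by omega
  rw [this]
  norm_cast

end Groth.Agent.Lefpen.H716.RegDivSmooth
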