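import Groth.Agent.Lefpen.H716.ChartHyp
import Groth.Agent.Lefpen.H716.GoodMinor
import Groth.Agent.Lefpen.H716.RegDivSmooth
import Groth.Agent.Lefpen.H716.CIGeom
import Groth.Agent.Lefpen.H717.Tow
import Groth.Agent.Lefpen.H718.JacCI
import Groth.Agent.Sga5.ProjSmooth

/-!
# The tower of partial intersections near a smooth complete intersection

* `exists_tow`: for a complete intersection `Y = V(G_0, …, G_{d-1}) ⊆ P^{n+d}` smooth of relative dimension `n`
  there is an open `P' ⊇ Y` such that `tow G P' l` is smooth of relative dimension `n + (d - l)` over `k` for all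
  `l ≤ d`, and the inclusions `tow (l+1) ⟶ tow l` are regular divisors.
-/

set_option autoImplicit false
universe u

open CategoryTheory AlgebraicGeometry Limits TopologicalSpace Opposite MvPolynomial

namespace Groth.Agent.Lefpen.H716.TowGeo

open LefPen Groth.Agent.Lefpen.H717.Tow Groth.Agent.Lefpen.H716.GoodMinor Groth.Agent.Lefpen.H716.ChartHyp
open Groth.Agent.Lefpen.H716.CIGeom Groth.Agent.Lefpen.H705.ChartPoly
open Groth.Agent.Sga5

variable {N d : ℕ} {k : Type u} [Field k] {a : Fin d → ℕ} (G : ∀ j : Fin d, Form N k (a j))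

section Factor

variable (P' : (CohB1.ProjSpace N k).Opens)

theorem range_tow_subset (l : ℕ) : Set.range (tow G P' l).hom ⊆ (P' : Set (CohB1.ProjSpace N k)) := by
  induction l with
  | zero =>
    rw [tow_zero]
    exact (Scheme.Opens.range_ι P').subset
  | succ l ih =>
    by_cases h : l < d
    · rw [tow_succ G P' l h]
      rintro _ ⟨x, rfl⟩
      exact ih ⟨_, rfl⟩
    · have : tow G P' (l + 1) = tow G P' l := by rw [tow, dif_neg h]
      rw [this]
      exact ih

end Factor

section ChartTow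

variable (P' : (CohB1.ProjSpace N k).Opens) (j : Fin (N + 1)) {R : CommRingCat.{u}}
  (θ : CommRingCat.of (MvPolynomial (Fin N) k) ⟶ R)

/-- The dehomogenized equations. -/
noncomputable abbrev eqn (i : Fin d) : MvPolynomial (Fin N) k := ProjChart.dehom N k j (G i).1

/-- The first `l` equations over `R`. -/
def eqs (l : ℕ) : Set R := {x | ∃ i : Fin d, i.1 < l ∧ θ.hom (eqn G j i) = x}

/-- `T ×_P Spec R` is the closed subscheme of `Spec R` given by the first `l` equations. -/
def HasChart (l : ℕ) (T : Over (CohB1.ProjSpace N k)) : Prop :=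
  ∃ (B : CommRingCat.{u}) (π : R ⟶ B) (s : Spec B ⟶ T.left), Function.Surjective π.hom ∧
    RingHom.ker π.hom = Ideal.span (eqs G j θ l) ∧
    IsPullback s (Spec.map π) T.hom (Spec.map θ ≫ ProjSmooth.chart N k j)

theorem isPullback_of_mono {C : Type*} [Category C] {X Y Z : C} (s : X ⟶ Y) (m : Y ⟶ Z) [Mono m] (f : X ⟶ Z)
    (h : s ≫ m = f) : IsPullback s (𝟙 X) m f := by
  refine ⟨⟨by simp [h]⟩, ⟨PullbackCone.IsLimit.mk _ (fun c => c.snd) (fun c => ?_) (fun c => by simp)
    (fun c g _ hg => by simpa using hg)⟩⟩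
  rw [← cancel_mono m, Category.assoc, h, c.condition]

theorem hasChart_zero (hφ : Set.range (Spec.map θ ≫ ProjSmooth.chart N k j) ⊆ (P' : Set _)) :
    HasChart G j θ 0 (tow G P' 0) := by
  have h0 : eqs G j θ 0 = ∅ := by
    ext x
    simp [eqs]
  rw [tow_zero]
  refine ⟨R, 𝟙 R, IsOpenImmersion.lift P'.ι (Spec.map θ ≫ ProjSmooth.chart N k j)
    (by rwa [Scheme.Opens.range_ι]), Function.surjective_id, ?_, ?_⟩
  · rw [h0, Ideal.span_empty]
    ext x
    simp [RingHom.mem_ker]
  · rw [Spec.map_id]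
    exact isPullback_of_mono _ P'.ι _ (IsOpenImmersion.lift_fac _ _ _)

theorem hasChart_succ (l : ℕ) (h : l < d) (T : Over (CohB1.ProjSpace N k)) (hT : HasChart G j θ l T) :
    HasChart G j θ (l + 1)
      (Over.mk (pullback.fst T.hom (LefPen.hypIdeal (G ⟨l, h⟩)).subschemeι ≫ T.hom)) := by
  obtain ⟨B, π, s, hπ, hker, hpb⟩ := hT
  let x : B := (θ ≫ π).hom (eqn G j ⟨l, h⟩)
  let q : B ⟶ CommRingCat.of (B ⧸ Ideal.span {x}) := CommRingCat.ofHom (Ideal.Quotient.mk (Ideal.span {x}))
  have hq : Function.Surjective q.hom := Ideal.Quotient.mk_surjective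
  have hqk : RingHom.ker q.hom = Ideal.span {x} := Ideal.mk_ker
  obtain ⟨t, ht⟩ := exists_isPullback (G ⟨l, h⟩) j (θ ≫ π) q hq hqk
  have e1 : Spec.map (θ ≫ π) ≫ ProjSmooth.chart N k j = s ≫ T.hom := by
    rw [hpb.w, Spec.map_comp, Category.assoc]
  rw [e1] at ht
  have hw : (Spec.map q ≫ s) ≫ T.hom = t ≫ (LefPen.hypIdeal (G ⟨l, h⟩)).subschemeι := by
    rw [Category.assoc]
    exact ht.w
  have h1 : IsPullback (pullback.lift (Spec.map q ≫ s) t hw) (Spec.map q)
      (pullback.fst T.hom (LefPen.hypIdeal (G ⟨l, h⟩)).subschemeι) s := by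
    refine IsPullback.of_right ?_ (pullback.lift_fst _ _ _)
      (IsPullback.of_hasPullback T.hom (LefPen.hypIdeal (G ⟨l, h⟩)).subschemeι).flip
    rw [pullback.lift_snd]
    exact ht.flip
  refine ⟨_, π ≫ q, pullback.lift (Spec.map q ≫ s) t hw, ?_, ?_, ?_⟩
  · exact hq.comp hπ
  · have h2 : RingHom.ker (π ≫ q).hom = Ideal.comap π.hom (RingHom.ker q.hom) := rfl
    have h3 : Ideal.span {x} = Ideal.map π.hom (Ideal.span {θ.hom (eqn G j ⟨l, h⟩)}) := by
      rw [Ideal.map_span, Set.image_singleton]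
      rfl
    rw [h2, hqk, h3, Ideal.comap_map_of_surjective' _ hπ, hker, ← Ideal.span_union]
    congr 1
    ext y
    simp only [eqs, Set.mem_union, Set.mem_singleton_iff, Set.mem_ofPred_eq]
    constructor
    · rintro (rfl | ⟨i, hi, rfl⟩)
      · exact ⟨⟨l, h⟩, Nat.lt_succ_self l, rfl⟩
      · exact ⟨i, hi.trans (Nat.lt_succ_self l), rfl⟩
    · rintro ⟨i, hi, rfl⟩
      rcases (Nat.lt_succ_iff.1 hi).lt_or_eq with h' | h'
      · exact Or.inr ⟨i, h', rfl⟩
      · left
        have : i = ⟨l, h⟩ := Fin.ext h'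
        rw [this]
  · rw [Spec.map_comp]
    exact h1.paste_vert hpb

theorem hasChart_tow (hφ : Set.range (Spec.map θ ≫ ProjSmooth.chart N k j) ⊆ (P' : Set _)) (l : ℕ)
    (hl : l ≤ d) : HasChart G j θ l (tow G P' l) := by
  induction l with
  | zero => exact hasChart_zero G P' j θ hφ
  | succ l ih =>
    rw [tow_succ G P' l hl]
    exact hasChart_succ G j θ l hl _ (ih (Nat.le_of_succ_le hl))

end ChartTow

section Cover

/-- The good distinguished opens of the charts. -/
def Idx : Type u := {p : Fin (N + 1) × MvPolynomial (Fin N) k // Good (fun i => eqn G p.1 i) p.2}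

/-- The ring of a good distinguished open. -/
noncomputable abbrev ringOf (δ : MvPolynomial (Fin N) k) : CommRingCat.{u} := CommRingCat.of (Localization.Away δ)

/-- The inclusion of a distinguished open. -/
noncomputable abbrev θof (δ : MvPolynomial (Fin N) k) : CommRingCat.of (MvPolynomial (Fin N) k) ⟶ ringOf δ :=
  CommRingCat.ofHom (algebraMap (MvPolynomial (Fin N) k) (Localization.Away δ))

/-- The inclusion of a distinguished open of a chart. -/
noncomputable def emb (j : Fin (N + 1)) (δ : MvPolynomial (Fin N) k) :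
    Spec (ringOf δ) ⟶ CohB1.ProjSpace N k :=
  Spec.map (θof δ) ≫ ProjSmooth.chart N k j

instance isOpenImmersion_emb (j : Fin (N + 1)) (δ : MvPolynomial (Fin N) k) : IsOpenImmersion (emb j δ) := by
  have h1 : IsOpenImmersion (Spec.map (θof δ)) := AlgebraicGeometry.Scheme.isOpenImmersion_SpecMap_localizationAway (R := CommRingCat.of (MvPolynomial (Fin N) k)) δ
  unfold emb
  exact MorphismProperty.comp_mem (W := @IsOpenImmersion) _ _ h1 (ProjSmooth.isOpenImmersion_chart N k j)

/-- The open where the Jacobian has a flag of invertible minors. -/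
noncomputable def Pgood : (CohB1.ProjSpace N k).Opens :=
  ⨆ p : Idx G, (emb p.1.1 p.1.2).opensRange

theorem range_emb_subset (p : Idx G) : Set.range (emb p.1.1 p.1.2) ⊆ (Pgood G : Set (CohB1.ProjSpace N k)) := by
  have h := le_iSup (fun p : Idx G => (emb p.1.1 p.1.2).opensRange) p
  exact h

theorem mem_range_of_isPullback {W X Y Z : Scheme.{u}} {s : W ⟶ X} {g : W ⟶ Y} {f : X ⟶ Z} {i : Y ⟶ Z}
    (h : IsPullback s g f i) (x : X) (hx : f x ∈ Set.range i) : x ∈ Set.range s := by
  have h1 : x ∈ Set.range (pullback.fst f i) := by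
    rw [Scheme.Pullback.range_fst]
    exact hx
  obtain ⟨y, rfl⟩ := h1
  refine ⟨h.isoPullback.inv y, ?_⟩
  rw [← Scheme.Hom.comp_apply, h.isoPullback_inv_fst]

theorem smooth_tow {n : ℕ} (hN : N = n + d) (l : ℕ) (hl : l ≤ d) :
    SmoothOfRelativeDimension (n + (d - l)) ((tow G (Pgood G) l).hom ≫ CohB1.ProjSpace.toSpec N k) := by
  have H : ∀ p : Idx G, HasChart G p.1.1 (θof p.1.2) l (tow G (Pgood G) l) := fun p =>
    hasChart_tow G (Pgood G) p.1.1 (θof p.1.2) (range_emb_subset G p) l hl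
  choose B π s hπ hker hpb using H
  have hs : ∀ p, IsOpenImmersion (s p) := fun p =>
    MorphismProperty.of_isPullback (P := @IsOpenImmersion) (hpb p).flip (isOpenImmersion_emb p.1.1 p.1.2)
  let 𝒰 : (tow G (Pgood G) l).left.OpenCover :=
    Scheme.Cover.mkOfCovers (Idx G) (fun p => Spec (B p)) (fun p => s p) (fun x => by
        have h1 : (tow G (Pgood G) l).hom x ∈ (Pgood G : Set _) := range_tow_subset G _ l ⟨x, rfl⟩
        obtain ⟨p, hp⟩ := Opens.mem_iSup.1 h1
        obtain ⟨y, hy⟩ := mem_range_of_isPullback (hpb p) x hp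
        exact ⟨p, y, hy⟩) (fun p => hs p)
  rw [IsZariskiLocalAtSource.iff_of_openCover (P := @SmoothOfRelativeDimension (n + (d - l))) 𝒰]
  intro p
  have e1 : s p ≫ (tow G (Pgood G) l).hom ≫ CohB1.ProjSpace.toSpec N k =
      Spec.map (CommRingCat.ofHom (((π p).hom.comp (algebraMap (MvPolynomial (Fin N) k)
        (Localization.Away p.1.2))).comp C)) := by
    rw [(hpb p).w_assoc, Category.assoc, ProjSmooth.chart_toSpec, ← Spec.map_comp, ← Spec.map_comp]
    rfl
  have h1 : SmoothOfRelativeDimension (n + (d - l)) (s p ≫ (tow G (Pgood G) l).hom ≫ CohB1.ProjSpace.toSpec N k) := by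
    rw [e1, HasRingHomProperty.Spec_iff (P := @SmoothOfRelativeDimension (n + (d - l)))]
    refine RingHom.locally_of RingHom.isStandardSmoothOfRelativeDimension_respectsIso _ ?_
    refine isStandardSmooth_of_good (fun i => eqn G p.1.1 i) hl (by omega) p.1.2 p.2 (π p).hom (hπ p) ?_
    rw [hker p]
    congr 1
    ext x
    simp only [eqs, Set.mem_ofPred_eq, Set.mem_range]
    constructor
    · rintro ⟨i, hi, rfl⟩
      exact ⟨⟨i.1, hi⟩, rfl⟩
    · rintro ⟨i, rfl⟩
      exact ⟨Fin.castLE hl i, i.2, rfl⟩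
  exact h1

end Cover

section Contains

theorem mem_of_mem_support (j : Fin (N + 1)) (p : PrimeSpectrum (MvPolynomial (Fin N) k)) (i : Fin d)
    (h : ProjSmooth.chart N k j p ∉ Dplus (G i)) : eqn G j i ∈ p.asIdeal := by
  have hx : ProjSmooth.chart N k j p ∈ chart N k j := top_le_preimage (r := N) (k := k) j
    (show p ∈ (⊤ : (Spec (CommRingCat.of (MvPolynomial (Fin N) k))).Opens) from trivial)
  rw [← mem_basicOpen_dehom_iff (G i) j _ hx] at h
  by_contra hp
  apply h
  have h1 := Scheme.basicOpen_appLE (ProjSmooth.chart N k j) ⊤ (chart N k j) (top_le_preimage j) (dehom (G i) j)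
  have h2 : p ∈ (Spec (CommRingCat.of (MvPolynomial (Fin N) k))).basicOpen
      ((ProjSmooth.chart N k j).appLE (LefPen.chart N k j) ⊤ (top_le_preimage j) (dehom (G i) j)) := by
    have h3 := chart_appLE_dehom (G i) j
    change p ∈ (Spec (CommRingCat.of (MvPolynomial (Fin N) k))).basicOpen
      (((ProjSmooth.chart N k j).appLE (LefPen.chart N k j) ⊤ (top_le_preimage j)).hom (dehom (G i) j))
    rw [h3]
    have h4 := basicOpen_eq_of_affine (R := CommRingCat.of (MvPolynomial (Fin N) k)) (eqn G j i)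
    change p ∈ (Spec (CommRingCat.of (MvPolynomial (Fin N) k))).basicOpen
      ((Scheme.ΓSpecIso (CommRingCat.of (MvPolynomial (Fin N) k))).inv (eqn G j i))
    rw [h4]
    exact hp
  rw [h1] at h2
  exact h2.2

theorem range_subset_Pgood {n : ℕ} (hN : N = n + d)
    [SmoothOfRelativeDimension n ((ciIdeal G).subschemeι ≫ CohB1.ProjSpace.toSpec N k)] :
    Set.range (ciIdeal G).subschemeι ⊆ (Pgood G : Set (CohB1.ProjSpace N k)) := by
  intro x hx
  rw [Scheme.IdealSheafData.range_subschemeι] at hx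
  have hx' := (mem_support_ciIdeal_iff G x).1 hx
  obtain ⟨j, p, rfl⟩ := ProjSmooth.exists_mem_chart N k x
  have hp : ∀ i, eqn G j i ∈ p.asIdeal := fun i => mem_of_mem_support G j p i (hx' i)
  obtain ⟨B, hB⟩ := Groth.Agent.Lefpen.H718.JacCI.exists_rightInverse_dehom G hN j
  let v : MvPolynomial (Fin N) k →+* p.asIdeal.ResidueField := algebraMap _ _
  have hv : ∀ x ∈ Ideal.span (Set.range fun i => eqn G j i), v x = 0 := by
    intro x hx
    have h1 : Ideal.span (Set.range fun i => eqn G j i) ≤ p.asIdeal := by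
      rw [Ideal.span_le]
      rintro _ ⟨i, rfl⟩
      exact hp i
    have h2 := h1 hx
    rwa [← Ideal.algebraMap_residueField_eq_zero] at h2
  have hli := linearIndependent_of_rightInverse v
    (Matrix.of fun (i : Fin d) (l : Fin N) => pderiv l (eqn G j i)) B (fun m m' => hv _ (hB m m'))
  obtain ⟨δ, hδ, hδ'⟩ := exists_good (fun i => eqn G j i) v hli
  have hδp : δ ∉ p.asIdeal := by
    intro h
    exact hδ' (by rwa [Ideal.algebraMap_residueField_eq_zero])
  apply range_emb_subset G ⟨(j, δ), hδ⟩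
  have h5 : p ∈ Set.range (Spec.map (θof δ)) := by
    have h6 := PrimeSpectrum.localization_away_comap_range (Localization.Away δ) δ
    have h7 : p ∈ (PrimeSpectrum.basicOpen δ : Set (PrimeSpectrum (MvPolynomial (Fin N) k))) := hδp
    rw [← h6] at h7
    exact h7
  obtain ⟨y, hy⟩ := h5
  refine ⟨y, ?_⟩
  rw [emb, Scheme.Hom.comp_apply]
  exact congrArg _ hy

end Contains

/-- Near a smooth complete intersection the partial intersections are smooth and each is a regular divisor in the
previous one. -/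
theorem exists_tow [PerfectField k] {n : ℕ} (hN : N = n + d)
    [SmoothOfRelativeDimension n ((ciIdeal G).subschemeι ≫ CohB1.ProjSpace.toSpec N k)] :
    ∃ P' : (CohB1.ProjSpace N k).Opens, Set.range (ciIdeal G).subschemeι ⊆ (P' : Set (CohB1.ProjSpace N k)) ∧
      (∀ l, l ≤ d → SmoothOfRelativeDimension (n + (d - l)) ((tow G P' l).hom ≫ CohB1.ProjSpace.toSpec N k)) ∧
      ∀ (l : ℕ) (h : l < d), Sga4h.RegDiv.IsRegDiv
        (pullback.fst (tow G P' l).hom (LefPen.hypIdeal (G ⟨l, h⟩)).subschemeι) := by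
  refine ⟨Pgood G, range_subset_Pgood G hN, fun l hl => smooth_tow G hN l hl, fun l h => ?_⟩
  have h1 := smooth_tow G hN l h.le
  have h2 := smooth_tow G hN (l + 1) h
  rw [tow_succ G _ l h] at h2
  have h3 : n + (d - l) = n + (d - (l + 1)) + 1 := by omega
  rw [h3] at h1
  have h4 : SmoothOfRelativeDimension (n + (d - (l + 1)))
      (pullback.fst (tow G (Pgood G) l).hom (LefPen.hypIdeal (G ⟨l, h⟩)).subschemeι ≫
        (tow G (Pgood G) l).hom ≫ CohB1.ProjSpace.toSpec N k) := by
    have h5 : (Over.mk (pullback.fst (tow G (Pgood G) l).hom (LefPen.hypIdeal (G ⟨l, h⟩)).subschemeι ≫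
      (tow G (Pgood G) l).hom)).hom = pullback.fst (tow G (Pgood G) l).hom
        (LefPen.hypIdeal (G ⟨l, h⟩)).subschemeι ≫ (tow G (Pgood G) l).hom := rfl
    rw [h5, Category.assoc] at h2
    exact h2
  exact Groth.Agent.Lefpen.H716.RegDivSmooth.isRegDiv_of_smooth
    ((tow G (Pgood G) l).hom ≫ CohB1.ProjSpace.toSpec N k) _ (n + (d - (l + 1)))

end Groth.Agent.Lefpen.H716.TowGeo
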